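import Cfsg.Agent.Lib.InvCentralizer.Model

/-!
Groups without subgroups of index two with an involution centraliser that is dihedral of order eight.
-/

set_option autoImplicit false

namespace Cfsg.Agent.Lib.InvCentralizer

open scoped ComplexConjugate
open Cfsg Cfsg.Agent.Lib

universe u

/-- The arithmetic at the end of the dihedral case. -/
theorem dihedral_arith {N : ℕ} {A : ℤ} (hA : 2 ∣ A) (hA0 : A ≠ 0) (hA1 : A + 1 ≠ 0)
    (h : (N : ℤ) * (A + 2) ^ 2 = 256 * A * (A + 1)) (h8 : 8 ∣ N) (h16 : ¬ 16 ∣ N) :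
    N = 168 ∨ N = 360 := by
  obtain ⟨k, rfl⟩ := hA
  have h' : (N : ℤ) * (k + 1) ^ 2 = 128 * k * (2 * k + 1) := by linarith
  have hk1 : k + 1 ≠ 0 := fun e => by
    have : k = -1 := by omega
    subst this
    norm_num at h'
  have hdvd : (k + 1) ^ 2 ∣ 128 := by
    have h1 : IsCoprime ((k + 1) ^ 2) k := IsCoprime.pow_left ⟨1, -1, by ring⟩
    have h2 : IsCoprime ((k + 1) ^ 2) (2 * k + 1) := IsCoprime.pow_left ⟨2, -1, by ring⟩
    have h3 : (k + 1) ^ 2 ∣ 128 * k * (2 * k + 1) := ⟨N, by linarith⟩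
    exact h1.dvd_of_dvd_mul_right (h2.dvd_of_dvd_mul_right h3)
  have hle := Int.le_of_dvd (by norm_num) hdvd
  have hb : -13 ≤ k ∧ k ≤ 11 := by
    constructor <;> nlinarith
  have h8' : (N : ℤ) % 16 = 8 := by omega
  obtain ⟨hb1, hb2⟩ := hb
  interval_cases k <;> omega

/-- A matrix representation of the dihedral group of order eight. -/
def dihedralMat : DihedralGroup 4 → Matrix (Fin 2) (Fin 2) ℤ
  | .r i => (![!![1, 0; 0, 1], !![0, -1; 1, 0], !![-1, 0; 0, -1], !![0, 1; -1, 0]] :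
      Fin 4 → Matrix (Fin 2) (Fin 2) ℤ) i
  | .sr i => (![!![1, 0; 0, -1], !![0, -1; -1, 0], !![-1, 0; 0, 1], !![0, 1; 1, 0]] :
      Fin 4 → Matrix (Fin 2) (Fin 2) ℤ) i

/-- The dihedral group of order eight acting on the square. -/
def dihedralRep : DihedralGroup 4 →* Matrix (Fin 2) (Fin 2) ℤ where
  toFun := dihedralMat
  map_one' := by decide
  map_mul' := by decide +kernel

/-- The class function used in the dihedral case. -/
def dihedralFun : DihedralGroup 4 → ℤ
  | .r i => (![0, 2, 4, 2] : Fin 4 → ℤ) i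
  | .sr _ => 0

theorem card_of_dihedral_centralizer {G : Type u} [Group G] [Fintype G] (t : G) (ht : orderOf t = 2)
    (hno : ∀ H : Subgroup G, H.index ≠ 2)
    (e : Subgroup.centralizer ({t} : Set G) ≃* DihedralGroup 4) :
    Nat.card G = 168 ∨ Nat.card G = 360 := by
  classical
  haveI : Fintype (Subgroup.centralizer ({t} : Set G)) := Fintype.ofFinite _
  obtain ⟨hz1, hz2, hz3⟩ := tImage_props e ht
  have hz : tImage e = .r 2 := (show ∀ z : DihedralGroup 4,
    z * z = 1 → z ≠ 1 → (∀ m, z * m = m * z) → z = .r 2 by decide +kernel) _ hz1 hz2 hz3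
  obtain ⟨hconj, h8, h16⟩ := fusion_of_model e hno ht 2 (.r 1) (DihedralGroup.orderOf_r_one)
    ⟨2, by rw [hz]; decide⟩ (by rw [hz]; decide +kernel)
    (by rw [DihedralGroup.nat_card]; decide) (by rw [DihedralGroup.nat_card]; decide)
  obtain ⟨a, d, ha, hd, hpos, hpar, ha1, hd1⟩ := exists_values (G := G) ht
  let φ : ℤ →+* ℂ := Int.castRingHom ℂ
  have hφ : ∀ x : ℤ, conj (φ x) = φ (star x) := fun x => by simp [φ]
  have hgen : IsGeneralizedCharacter (DihedralGroup 4) fun m => φ (dihedralFun m) := by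
    have hv : ∀ m, dihedralFun m = 1 + (dihedralRep m).det - (dihedralRep m).trace := by decide +kernel
    simp only [hv, map_sub, map_add, map_one]
    exact Chars.isGeneralizedCharacter_sub (Chars.isGeneralizedCharacter_add
      (Chars.isGeneralizedCharacter_of_isCharacter (Chars.irr_isCharacter (Chars.trivialIrr _)))
      (Chars.isGeneralizedCharacter_of_isCharacter (isCharacter_det dihedralRep φ)))
      (Chars.isGeneralizedCharacter_of_isCharacter (isCharacter_trace dihedralRep φ))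
  have hsupp : ∀ m, dihedralFun m ≠ 0 → ∃ i : ℕ, i < 5 ∧ m ^ i = tImage e := by
    rw [hz]; decide +kernel
  obtain ⟨c, hc, hc0, hc1, hct, hcS⟩ := exists_coeff_of_model e φ ht hconj ha hd dihedralFun hgen hsupp
    (m₀ := 1) (v := 4) (S := 32) (by decide +kernel) (by rw [hz]; decide) (by decide +kernel)
  have hn := sum_coeff_mul_of_model e φ ht hφ hgen hsupp hsupp hc hc (k := 3) (by decide +kernel)
  set o := Chars.trivialIrr G
  obtain ⟨p, q, hpq, hpo, hqo, hcp, hcq, -, hsum⟩ := exists_pair_support c o (by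
    rw [hc0]; simpa [pow_two] using hn)
  rw [hsum] at hc1 hct hcS
  rw [hc0, hd1] at hc1
  rw [hc0, ha1] at hct
  rw [hc0, ha1, hd1] at hcS
  -- sum of squares
  have hsq : a p ^ 2 + a q ^ 2 ≤ 7 := by
    have h := sum_sq_value (t := t) ha
    rw [Nat.card_congr e.toEquiv, DihedralGroup.nat_card] at h
    have h3 : ∑ χ ∈ ({o, p, q} : Finset _), a χ ^ 2 ≤ ∑ χ, a χ ^ 2 :=
      Finset.sum_le_sum_of_subset_of_nonneg (Finset.subset_univ _) fun _ _ _ => sq_nonneg _
    rw [h, Finset.sum_insert (by simp [Ne.symm hpo, Ne.symm hqo]), Finset.sum_pair hpq, ha1] at h3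
    push_cast at h3
    linarith
  have hAd : ∀ r, c r = 1 ∨ c r = -1 →
      ((c r : ℚ) * ((a r : ℚ) ^ 2 / d r) = ((c r * a r : ℤ) : ℚ) ^ 2 / ((c r * d r : ℤ) : ℚ)) ∧
        2 ∣ c r * d r - c r * a r ∧ c r * d r ≠ 0 ∧ (c r * a r) ^ 2 = a r ^ 2 := by
    intro r hr
    have hd0 := (hpos r).ne'
    rcases hr with h | h <;> rw [h] <;> refine ⟨?_, ?_, by simpa using hd0, by ring⟩
    · push_cast; ring
    · simpa using hpar r
    · push_cast; ring
    · obtain ⟨w, hw⟩ := hpar r; exact ⟨-w, by linarith⟩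
  obtain ⟨hpe, hpd, hp0, hps⟩ := hAd p hcp
  obtain ⟨hqe, hqd, hq0, hqs⟩ := hAd q hcq
  rw [hpe, hqe] at hcS
  rw [← hps, ← hqs] at hsq
  have h1 : (1 : ℤ) + c p * d p + c q * d q = 0 := by
    apply (Int.cast_injective (α := ℚ)); push_cast at hc1 ⊢; linarith
  have h2 : (1 : ℤ) + c p * a p + c q * a q = 4 := by
    apply (Int.cast_injective (α := ℚ)); push_cast at hct ⊢; linarith
  generalize c p * d p = A at h1 hpd hp0 hcS
  generalize c q * d q = B at h1 hqd hq0 hcS
  generalize c p * a p = x at h2 hpd hsq hcS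
  generalize c q * a q = y at h2 hqd hsq hcS
  have hxy : (x = 2 ∧ y = 1) ∨ (x = 1 ∧ y = 2) := by
    have hx1 : -2 ≤ x := by nlinarith
    have hx2 : x ≤ 2 := by nlinarith
    obtain rfl : y = 3 - x := by linarith
    interval_cases x <;> first | omega | norm_num at hsq
  have hN : (Nat.card G : ℤ) * (A * B + x ^ 2 * B + y ^ 2 * A) = 256 * (A * B) := by
    apply (Int.cast_injective (α := ℚ))
    have hA' : (A : ℚ) ≠ 0 := by exact_mod_cast hp0
    have hB' : (B : ℚ) ≠ 0 := by exact_mod_cast hq0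
    rw [DihedralGroup.card] at hcS
    push_cast at hcS ⊢
    field_simp at hcS
    linarith
  rcases hxy with ⟨rfl, rfl⟩ | ⟨rfl, rfl⟩
  · have hB : B = -1 - A := by linarith
    subst hB
    exact dihedral_arith (A := A) (by omega) hp0 (fun e => hq0 (by linarith)) (by linarith) h8 h16
  · have hA : A = -1 - B := by linarith
    subst hA
    exact dihedral_arith (A := B) (by omega) hq0 (fun e => hp0 (by linarith)) (by linarith) h8 h16

end Cfsg.Agent.Lib.InvCentralizer
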