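import Cfsg.Agent.Lib.InvCentralizer.GLTwoThree

/-!
Groups without subgroups of index two with an involution centraliser isomorphic to the general linear
group of degree two over three elements.
-/

set_option autoImplicit false

namespace Cfsg.Agent.Lib.InvCentralizer

open scoped ComplexConjugate
open Cfsg Cfsg.Agent.Lib

universe u

theorem gl_final : ∀ k ∈ Finset.Icc (-143 : ℤ) 145, k - 1 ≠ 0 →
    (k - 1) * (k - 1) ∣ 2304 * k * (2 * k + 1) →
    (2304 * k * (2 * k + 1) / ((k - 1) * (k - 1))) % 32 = 16 →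
    2304 * k * (2 * k + 1) / ((k - 1) * (k - 1)) ∈ [5616, 7920, 2160, 3696] := by
  decide +kernel

/-- The candidates from the second test function. -/
theorem gl_candidates {N : ℕ} {X : ℤ} (hX : 2 ∣ X) (hX0 : X ≠ 0) (hX1 : X + 1 ≠ 0)
    (h : (N : ℤ) * (X - 2) ^ 2 = 4608 * X * (X + 1)) (h16 : 16 ∣ N) (h32 : ¬ 32 ∣ N) :
    N = 5616 ∨ N = 7920 ∨ N = 2160 ∨ N = 3696 := by
  obtain ⟨k, rfl⟩ := hX
  have h' : (N : ℤ) * (k - 1) ^ 2 = 2304 * k * (2 * k + 1) := by linarith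
  have hk1 : k - 1 ≠ 0 := fun e => by
    have : k = 1 := by omega
    subst this
    norm_num at h'
  have hd : (k - 1) ^ 2 ∣ 20736 := by
    have h1 : IsCoprime ((k - 1) ^ 2) k := IsCoprime.pow_left ⟨-1, 1, by ring⟩
    have h3 : (k - 1) ^ 2 ∣ 2304 * k * (2 * k + 1) := ⟨N, by linarith⟩
    have h4 : (k - 1) ^ 2 ∣ 2304 * (2 * k + 1) := h1.dvd_of_dvd_mul_right (by
      rwa [show 2304 * (2 * k + 1) * k = 2304 * k * (2 * k + 1) by ring])
    have h5 : k - 1 ∣ 2304 * 3 := by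
      have : k - 1 ∣ 2304 * (2 * k + 1) := (dvd_pow_self _ two_ne_zero).trans h4
      rw [show 2304 * (2 * k + 1) = 2304 * 3 + (k - 1) * (2 * 2304) by ring] at this
      exact (dvd_add_left (dvd_mul_right _ _)).mp this
    have h6 : (k - 1) ^ 2 ∣ 2304 * 3 * (k - 1) * 2 := by
      rw [pow_two]
      exact dvd_mul_of_dvd_left (mul_dvd_mul h5 dvd_rfl) 2
    have h7 : (k - 1) ^ 2 ∣ 2304 * 3 * 3 := by
      have := dvd_mul_of_dvd_left h4 (3 : ℤ)
      rw [show 2304 * (2 * k + 1) * 3 = 2304 * 3 * 3 + 2304 * 3 * (k - 1) * 2 by ring] at this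
      exact (dvd_add_left h6).mp this
    exact h7
  have hle := Int.le_of_dvd (by norm_num) hd
  have hmem : k ∈ Finset.Icc (-143 : ℤ) 145 := Finset.mem_Icc.mpr (by constructor <;> nlinarith)
  have hq : 2304 * k * (2 * k + 1) / ((k - 1) * (k - 1)) = N := by
    rw [← h', pow_two, Int.mul_ediv_cancel _ (mul_ne_zero hk1 hk1)]
  have := gl_final k hmem hk1 (Dvd.intro_left (N : ℤ) (by rw [← pow_two]; exact h')) (by rw [hq]; omega)
  rw [hq] at this
  simp only [List.mem_cons, List.not_mem_nil, or_false] at this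
  omega

theorem gl_exclude_final : ∀ n ∈ [(2160 : ℤ), 3696], ∀ a ∈ Finset.Icc (1 : ℤ) 6,
    ∀ A ∈ Finset.Icc (-70 : ℤ) 70, A ≠ 0 → A + 1 ≠ 0 →
      n * (A * (-1 - A) + a ^ 2 * (-1 - A) + (7 - a) ^ 2 * A) ≠ 9216 * (A * (-1 - A)) := by
  decide +kernel

/-- The first test function excludes the two false candidates. -/
theorem gl_exclude {n a A : ℤ} (hn : n = 2160 ∨ n = 3696) (ha1 : 1 ≤ a) (ha6 : a ≤ 6) (hA : A ≠ 0)
    (hA1 : A + 1 ≠ 0) :
    n * (A * (-1 - A) + a ^ 2 * (-1 - A) + (7 - a) ^ 2 * A) ≠ 9216 * (A * (-1 - A)) := by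
  intro h
  have hmem : A ∈ Finset.Icc (-70 : ℤ) 70 := by
    rw [Finset.mem_Icc]
    rcases hn with rfl | rfl <;> interval_cases a <;> constructor <;> nlinarith
  exact gl_exclude_final n (by rcases hn with rfl | rfl <;> simp) a (Finset.mem_Icc.mpr ⟨ha1, ha6⟩) A
    hmem hA hA1 h

/-- Minus the identity. -/
def negOne : GLThree := ⟨(2, 0, 0, 2), by decide⟩

/-- An element of order eight. -/
def genEight : GLThree := ⟨(0, 1, 1, 1), by decide⟩

/-- Elementary facts in the model. -/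
theorem gl_model_facts :
    ∀ z : GLThree, z * z = 1 → z ≠ 1 → (∀ m : GLThree, z * m = m * z) → z = negOne := by
  decide +kernel

set_option maxHeartbeats 1600000 in
theorem card_of_gl_centralizer {G : Type u} [Group G] [Fintype G] (t : G) (ht : orderOf t = 2)
    (hno : ∀ H : Subgroup G, H.index ≠ 2) (e : Subgroup.centralizer ({t} : Set G) ≃* GLThree) :
    Nat.card G = 5616 ∨ Nat.card G = 7920 := by
  classical
  haveI : Fintype (Subgroup.centralizer ({t} : Set G)) := Fintype.ofFinite _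
  obtain ⟨hz1, hz2, hz3⟩ := tImage_props e ht
  have hz : tImage e = negOne := gl_model_facts _ hz1 hz2 hz3
  have hcard : Fintype.card GLThree = 48 := by decide +kernel
  haveI : Fact (Nat.Prime 2) := ⟨Nat.prime_two⟩
  obtain ⟨hconj, h16, h32⟩ := fusion_of_model e hno ht 3 genEight
    (orderOf_eq_prime_pow (n := 2) (by decide +kernel) (by decide +kernel))
    ⟨4, by rw [hz]; decide +kernel⟩ (by rw [hz]; decide +kernel)
    (by rw [Nat.card_eq_fintype_card, hcard]; decide) (by rw [Nat.card_eq_fintype_card, hcard]; decide)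
  obtain ⟨a, d, ha, hd, hpos, hpar, ha1, hd1⟩ := exists_values (G := G) ht
  obtain ⟨hg1, hg2, hg4⟩ := isGeneralizedCharacter_tests
  have hs1 : ∀ m, testOne m ≠ 0 → ∃ i : ℕ, i < 5 ∧ m ^ i = tImage e := by rw [hz]; decide +kernel
  have hs2 : ∀ m, testTwo m ≠ 0 → ∃ i : ℕ, i < 5 ∧ m ^ i = tImage e := by rw [hz]; decide +kernel
  have hs4 : ∀ m, testFour m ≠ 0 → ∃ i : ℕ, i < 5 ∧ m ^ i = tImage e := by rw [hz]; decide +kernel
  obtain ⟨c₁, hc₁, hz₁, hdeg₁, hval₁, hcnt₁⟩ := exists_coeff_of_model e rootTwoHom ht hconj ha hd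
    testOne hg1 hs1 (m₀ := 1) (v := 8) (S := 192)
    (by decide +kernel) (by rw [hz]; decide +kernel) (by decide +kernel)
  obtain ⟨c₂, hc₂, hz₂, hdeg₂, hval₂, hcnt₂⟩ := exists_coeff_of_model e rootTwoHom ht hconj ha hd
    testTwo hg2 hs2 (m₀ := 1) (v := 0) (S := 96)
    (by decide +kernel) (by rw [hz]; decide +kernel) (by decide +kernel)
  obtain ⟨c₄, hc₄, hz₄, hdeg₄, hval₄, hcnt₄⟩ := exists_coeff_of_model e rootTwoHom ht hconj ha hd
    testFour hg4 hs4 (m₀ := 0) (v := 4) (S := 0)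
    (by decide +kernel) (by rw [hz]; decide +kernel) (by decide +kernel)
  have h11 := sum_coeff_mul_of_model e rootTwoHom ht conj_rootTwoHom hg1 hs1 hs1 hc₁ hc₁ (k := 3)
    (by decide +kernel)
  have h22 := sum_coeff_mul_of_model e rootTwoHom ht conj_rootTwoHom hg2 hs2 hs2 hc₂ hc₂ (k := 3)
    (by decide +kernel)
  have h44 := sum_coeff_mul_of_model e rootTwoHom ht conj_rootTwoHom hg4 hs4 hs4 hc₄ hc₄ (k := 2)
    (by decide +kernel)
  have h24 := sum_coeff_mul_of_model e rootTwoHom ht conj_rootTwoHom hg4 hs2 hs4 hc₂ hc₄ (k := 1)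
    (by decide +kernel)
  set o := Chars.trivialIrr G
  have hterm : ∀ (c : IrrCharacter G → ℤ) (r : IrrCharacter G), c r = 1 ∨ c r = -1 →
      ((c r : ℚ) * ((a r : ℚ) ^ 2 / d r) = ((c r * a r : ℤ) : ℚ) ^ 2 / ((c r * d r : ℤ) : ℚ)) ∧
        2 ∣ c r * d r - c r * a r ∧ c r * d r ≠ 0 ∧ (c r * a r) ^ 2 = a r ^ 2 := by
    intro c r hr
    have hd0 := (hpos r).ne'
    rcases hr with h | h <;> rw [h] <;> refine ⟨?_, ?_, by simpa using hd0, by ring⟩
    · push_cast; ring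
    · simpa using hpar r
    · push_cast; ring
    · obtain ⟨w, hw⟩ := hpar r; exact ⟨-w, by linarith⟩
  obtain ⟨p, q, hpq, hpo, hqo, hcp, hcq, -, hsum₄⟩ := exists_pair_support c₄ o (by
    rw [hz₄]; simpa [pow_two] using h44)
  obtain ⟨p₁, q₁, hpq₁, hpo₁, hqo₁, hcp₁, hcq₁, -, hsum₁⟩ := exists_pair_support c₁ o (by
    rw [hz₁]; simpa [pow_two] using h11)
  obtain ⟨p₂, q₂, hpq₂, hpo₂, hqo₂, hcp₂, hcq₂, hzero₂, hsum₂⟩ := exists_pair_support c₂ o (by
    rw [hz₂]; simpa [pow_two] using h22)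
  rw [hsum₁, hz₁, ha1] at hval₁
  rw [hsum₁, hz₁, hd1] at hdeg₁
  rw [hsum₁, hz₁, ha1, hd1, (hterm c₁ p₁ hcp₁).1, (hterm c₁ q₁ hcq₁).1] at hcnt₁
  rw [hsum₂, hz₂, ha1] at hval₂
  rw [hsum₂, hz₂, hd1] at hdeg₂
  rw [hsum₂, hz₂, ha1, hd1, (hterm c₂ p₂ hcp₂).1, (hterm c₂ q₂ hcq₂).1] at hcnt₂
  rw [hsum₄, hz₄] at hval₄ hdeg₄
  rw [hsum₄, hz₄, (hterm c₄ p hcp).1, (hterm c₄ q hcq).1] at hcnt₄
  rw [hcard] at hcnt₁ hcnt₂ hcnt₄
  have hG0 : (Nat.card G : ℚ) ≠ 0 := Nat.cast_ne_zero.mpr Nat.card_pos.ne'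
  -- both signed values of the constituents of the fourth function are two
  have hpq4 : c₄ p * a p = 2 ∧ c₄ q * a q = 2 := by
    have hs : c₄ p * a p + c₄ q * a q = 4 := by
      apply Int.cast_injective (α := ℚ); push_cast at hval₄ ⊢; linarith
    have hd' : c₄ q * d q = -(c₄ p * d p) := by
      apply Int.cast_injective (α := ℚ); push_cast at hdeg₄ ⊢; linarith
    have hne : ((c₄ p * d p : ℤ) : ℚ) ≠ 0 := by exact_mod_cast (hterm c₄ p hcp).2.2.1
    rw [hd'] at hcnt₄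
    have h0 : ((c₄ p * a p : ℤ) : ℚ) ^ 2 = ((c₄ q * a q : ℤ) : ℚ) ^ 2 := by
      simp only [Int.cast_neg, Int.cast_zero, zero_mul, zero_add, div_neg, mul_zero] at hcnt₄
      have := (mul_eq_zero.mp hcnt₄).resolve_left hG0
      rw [← sub_eq_add_neg, sub_eq_zero, div_left_inj' hne] at this
      exact this
    have h0' : (c₄ p * a p) ^ 2 = (c₄ q * a q) ^ 2 := by exact_mod_cast h0
    rcases sq_eq_sq_iff_eq_or_eq_neg.mp h0' with h | h <;> omega
  -- one of them occurs with the same sign in the second function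
  obtain ⟨r, hr, hrval⟩ : ∃ r, (r = p₂ ∨ r = q₂) ∧ c₂ r * a r = 2 := by
    have h24' : c₂ p * c₄ p + c₂ q * c₄ q = 1 := by
      have hh := hsum₄ (fun χ => (c₂ χ : ℚ))
      rw [hz₄, Int.cast_zero, zero_mul, zero_add] at hh
      apply Int.cast_injective (α := ℚ)
      push_cast
      rw [mul_comm (c₂ p : ℚ), mul_comm (c₂ q : ℚ), ← hh, ← Int.cast_one, ← h24]
      push_cast
      exact Finset.sum_congr rfl fun χ _ => mul_comm _ _
    have hbd : ∀ χ, χ ≠ o → c₂ χ = 0 ∨ ((χ = p₂ ∨ χ = q₂) ∧ (c₂ χ = 1 ∨ c₂ χ = -1)) := fun χ hχ => by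
      by_cases e1 : χ = p₂
      · exact Or.inr ⟨Or.inl e1, e1 ▸ hcp₂⟩
      by_cases e2 : χ = q₂
      · exact Or.inr ⟨Or.inr e2, e2 ▸ hcq₂⟩
      exact Or.inl (hzero₂ χ hχ e1 e2)
    rcases hbd p hpo with hp0 | ⟨hp1, hp2⟩
    · rcases hbd q hqo with hq0 | ⟨hq1, -⟩
      · rw [hp0, hq0] at h24'; simp at h24'
      · refine ⟨q, hq1, ?_⟩
        rw [hp0, zero_mul, zero_add] at h24'
        have : c₂ q = c₄ q := by
          rcases hcq with e | e <;> rw [e] at h24' ⊢ <;> linarith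
        rw [this, hpq4.2]
    · by_cases hsame : c₂ p = c₄ p
      · exact ⟨p, hp1, by rw [hsame, hpq4.1]⟩
      rcases hbd q hqo with hq0 | ⟨hq1, hq2⟩
      · exfalso
        rw [hq0, zero_mul, add_zero] at h24'
        apply hsame
        rcases hcp with e | e <;> rw [e] at h24' ⊢ <;> linarith
      · refine ⟨q, hq1, ?_⟩
        have : c₂ q = c₄ q := by
          rcases hcq with e | e <;> rcases hcp with e' | e' <;> rcases hp2 with e'' | e'' <;>
            rw [e, e', e''] at h24' <;> rw [e', e''] at hsame <;> first | omega | (exact absurd rfl hsame)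
        rw [this, hpq4.2]
  -- the second function
  have hcand : ∃ X : ℤ, 2 ∣ X ∧ X ≠ 0 ∧ X + 1 ≠ 0 ∧
      (Nat.card G : ℤ) * (X - 2) ^ 2 = 4608 * X * (X + 1) := by
    have hs : (1 : ℤ) + c₂ p₂ * a p₂ + c₂ q₂ * a q₂ = 0 := by
      apply Int.cast_injective (α := ℚ); push_cast at hval₂ ⊢; linarith
    have hD : (1 : ℤ) + c₂ p₂ * d p₂ + c₂ q₂ * d q₂ = 0 := by
      apply Int.cast_injective (α := ℚ); push_cast at hdeg₂ ⊢; linarith
    obtain ⟨-, hpp, hp0, -⟩ := hterm c₂ p₂ hcp₂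
    obtain ⟨-, hqp, hq0, -⟩ := hterm c₂ q₂ hcq₂
    have key : ∀ X Z : ℤ, X ≠ 0 → Z ≠ 0 → 2 ∣ X - 2 → 1 + X + Z = 0 →
        (Nat.card G : ℚ) * (1 + (2 : ℚ) ^ 2 / X + (-3 : ℚ) ^ 2 / Z) = 4608 →
        2 ∣ X ∧ X ≠ 0 ∧ X + 1 ≠ 0 ∧ (Nat.card G : ℤ) * (X - 2) ^ 2 = 4608 * X * (X + 1) := by
      intro X Z hX hZ hpar hXZ heq
      refine ⟨by omega, hX, by omega, ?_⟩
      obtain rfl : Z = -1 - X := by linarith
      apply Int.cast_injective (α := ℚ)
      have hX' : (X : ℚ) ≠ 0 := by exact_mod_cast hX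
      have hZ' : ((-1 - X : ℤ) : ℚ) ≠ 0 := by exact_mod_cast hZ
      push_cast at heq hZ' ⊢
      field_simp at heq
      linarith
    rcases hr with rfl | rfl
    · refine ⟨_, key _ _ hp0 hq0 (by rw [hrval] at hpp; exact hpp) hD ?_⟩
      rw [hrval, show c₂ q₂ * a q₂ = -3 by linarith] at hcnt₂
      push_cast at hcnt₂ ⊢
      linarith
    · refine ⟨_, key _ _ hq0 hp0 (by rw [hrval] at hqp; exact hqp) (by linarith) ?_⟩
      rw [hrval, show c₂ p₂ * a p₂ = -3 by linarith] at hcnt₂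
      push_cast at hcnt₂ ⊢
      linarith
  obtain ⟨X, hX, hX0, hX1, hXeq⟩ := hcand
  rcases gl_candidates hX hX0 hX1 hXeq h16 h32 with h | h | h | h
  · exact Or.inl h
  · exact Or.inr h
  -- the first function rules out the other two orders
  all_goals
    exfalso
    have hsq : a p₁ ^ 2 + a q₁ ^ 2 ≤ 47 := by
      have hh := sum_sq_value (t := t) ha
      rw [Nat.card_congr e.toEquiv, Nat.card_eq_fintype_card, hcard] at hh
      have h3 : ∑ χ ∈ ({o, p₁, q₁} : Finset _), a χ ^ 2 ≤ ∑ χ, a χ ^ 2 :=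
        Finset.sum_le_sum_of_subset_of_nonneg (Finset.subset_univ _) fun _ _ _ => sq_nonneg _
      rw [hh, Finset.sum_insert (by simp [Ne.symm hpo₁, Ne.symm hqo₁]), Finset.sum_pair hpq₁, ha1] at h3
      push_cast at h3
      linarith
    obtain ⟨-, -, hp0, hps⟩ := hterm c₁ p₁ hcp₁
    obtain ⟨-, -, hq0, hqs⟩ := hterm c₁ q₁ hcq₁
    rw [← hps, ← hqs] at hsq
    have hs : (1 : ℤ) + c₁ p₁ * a p₁ + c₁ q₁ * a q₁ = 8 := by
      apply Int.cast_injective (α := ℚ); push_cast at hval₁ ⊢; linarith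
    have hD : (1 : ℤ) + c₁ p₁ * d p₁ + c₁ q₁ * d q₁ = 0 := by
      apply Int.cast_injective (α := ℚ); push_cast at hdeg₁ ⊢; linarith
    generalize c₁ p₁ * d p₁ = A at hp0 hD hcnt₁
    generalize c₁ q₁ * d q₁ = B at hq0 hD hcnt₁
    generalize c₁ p₁ * a p₁ = x at hs hsq hcnt₁
    generalize c₁ q₁ * a q₁ = y at hs hsq hcnt₁
    obtain rfl : y = 7 - x := by linarith
    obtain rfl : B = -1 - A := by linarith
    refine gl_exclude (n := (Nat.card G : ℤ)) (a := x) (A := A) (by rw [h]; norm_num)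
      (by nlinarith) (by nlinarith) hp0 (by omega) ?_
    apply Int.cast_injective (α := ℚ)
    have hA' : (A : ℚ) ≠ 0 := by exact_mod_cast hp0
    have hB' : ((-1 - A : ℤ) : ℚ) ≠ 0 := by exact_mod_cast hq0
    push_cast at hcnt₁ hB' ⊢
    field_simp at hcnt₁
    linarith

end Cfsg.Agent.Lib.InvCentralizer
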