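import Cfsg.Agent.Lib.InvCentralizer.Model

/-!
The general linear group of degree two over three elements as a computable model, with its
two-dimensional complex representation over the integers adjoined a square root of minus two.
-/

set_option autoImplicit false

namespace Cfsg.Agent.Lib.InvCentralizer

open Cfsg Cfsg.Agent.Lib

/-- Entries of a two by two matrix over three elements. -/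
abbrev Code : Type := ZMod 3 × ZMod 3 × ZMod 3 × ZMod 3

/-- The determinant of a code. -/
def cdet : Code → ZMod 3
  | (a, b, c, d) => a * d - b * c

/-- Matrix multiplication on codes. -/
def cmul : Code → Code → Code
  | (a, b, c, d), (e, f, g, h) => (a * e + b * g, a * f + b * h, c * e + d * g, c * f + d * h)

/-- Invertible codes. -/
def GLThree : Type := {p : Code // cdet p ≠ 0}

instance : DecidableEq GLThree := inferInstanceAs (DecidableEq {p : Code // cdet p ≠ 0})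

instance : Fintype GLThree := inferInstanceAs (Fintype {p : Code // cdet p ≠ 0})

theorem cdet_cmul (p q : Code) : cdet (cmul p q) = cdet p * cdet q := by
  obtain ⟨a, b, c, d⟩ := p; obtain ⟨e, f, g, h⟩ := q
  simp only [cmul, cdet]; ring

theorem cmul_assoc (p q r : Code) : cmul (cmul p q) r = cmul p (cmul q r) := by
  obtain ⟨a, b, c, d⟩ := p; obtain ⟨e, f, g, h⟩ := q; obtain ⟨i, j, k, l⟩ := r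
  simp only [cmul, Prod.mk.injEq]
  refine ⟨?_, ?_, ?_, ?_⟩ <;> ring

/-- The adjugate times the determinant. -/
def cinv : Code → Code
  | (a, b, c, d) => ((a * d - b * c) * d, -((a * d - b * c) * b), -((a * d - b * c) * c),
      (a * d - b * c) * a)

theorem cinv_props : ∀ p : Code, cdet p ≠ 0 → cdet (cinv p) ≠ 0 ∧ cmul (cinv p) p = (1, 0, 0, 1) := by
  decide +kernel

instance : One GLThree := ⟨⟨(1, 0, 0, 1), by decide⟩⟩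

instance : Mul GLThree :=
  ⟨fun p q => ⟨cmul p.1 q.1, by
    haveI : Fact (Nat.Prime 3) := ⟨Nat.prime_three⟩
    rw [cdet_cmul]; exact mul_ne_zero p.2 q.2⟩⟩

instance : Inv GLThree := ⟨fun p => ⟨cinv p.1, (cinv_props p.1 p.2).1⟩⟩

instance : Group GLThree :=
  Group.ofLeftAxioms (fun p q r => Subtype.ext (cmul_assoc p.1 q.1 r.1))
    (fun p => Subtype.ext ((show ∀ q : Code, cmul (1, 0, 0, 1) q = q by decide +kernel) p.1))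
    (fun p => Subtype.ext (cinv_props p.1 p.2).2)

/-- The codes of matrices. -/
def glCode : Matrix.GeneralLinearGroup (Fin 2) (ZMod 3) →* GLThree where
  toFun g := ⟨((g : Matrix (Fin 2) (Fin 2) (ZMod 3)) 0 0, (g : Matrix (Fin 2) (Fin 2) (ZMod 3)) 0 1,
      (g : Matrix (Fin 2) (Fin 2) (ZMod 3)) 1 0, (g : Matrix (Fin 2) (Fin 2) (ZMod 3)) 1 1), by
    haveI : Fact (Nat.Prime 3) := ⟨Nat.prime_three⟩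
    have h := (Matrix.GeneralLinearGroup.det g).ne_zero
    rw [Matrix.GeneralLinearGroup.val_det_apply, Matrix.det_fin_two] at h
    exact h⟩
  map_one' := Subtype.ext (by simp; rfl)
  map_mul' g h := by
    apply Subtype.ext
    simp [cmul, Matrix.mul_apply, Fin.sum_univ_two]
    rfl

theorem glCode_bijective : Function.Bijective glCode := by
  haveI : Fact (Nat.Prime 3) := ⟨Nat.prime_three⟩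
  refine ⟨fun g h e => ?_, fun p => ?_⟩
  · have e' : ((g : Matrix (Fin 2) (Fin 2) (ZMod 3)) 0 0, (g : Matrix (Fin 2) (Fin 2) (ZMod 3)) 0 1,
        (g : Matrix (Fin 2) (Fin 2) (ZMod 3)) 1 0, (g : Matrix (Fin 2) (Fin 2) (ZMod 3)) 1 1)
        = ((h : Matrix (Fin 2) (Fin 2) (ZMod 3)) 0 0, (h : Matrix (Fin 2) (Fin 2) (ZMod 3)) 0 1,
        (h : Matrix (Fin 2) (Fin 2) (ZMod 3)) 1 0, (h : Matrix (Fin 2) (Fin 2) (ZMod 3)) 1 1) :=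
      congrArg Subtype.val e
    simp only [Prod.mk.injEq] at e'
    ext i j
    fin_cases i <;> fin_cases j <;> simp [e'.1, e'.2.1, e'.2.2.1, e'.2.2.2]
  · obtain ⟨⟨a, b, c, d⟩, hp⟩ := p
    refine ⟨Matrix.GeneralLinearGroup.mkOfDetNeZero !![a, b; c, d] (by
      simpa [Matrix.det_fin_two, cdet] using hp), Subtype.ext ?_⟩
    rfl

/-- The code equivalence. -/
noncomputable def glThreeEquiv : Matrix.GeneralLinearGroup (Fin 2) (ZMod 3) ≃* GLThree :=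
  MulEquiv.ofBijective glCode glCode_bijective

/-- The ring of integers of `ℚ(√-2)`. -/
abbrev RootTwo : Type := ℤ√(-2)

/-- The representing matrices, indexed by base-three codes. -/
def repTable : List (RootTwo × RootTwo × RootTwo × RootTwo) :=
 [
  (⟨1, 0⟩, ⟨0, 0⟩, ⟨0, 0⟩, ⟨1, 0⟩),
  (⟨1, 0⟩, ⟨0, 0⟩, ⟨0, 0⟩, ⟨1, 0⟩),
  (⟨1, 0⟩, ⟨0, 0⟩, ⟨0, 0⟩, ⟨1, 0⟩),
  (⟨1, 0⟩, ⟨0, 0⟩, ⟨0, 0⟩, ⟨1, 0⟩),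
  (⟨1, 0⟩, ⟨0, 0⟩, ⟨0, 0⟩, ⟨1, 0⟩),
  (⟨1, 0⟩, ⟨0, 0⟩, ⟨0, 0⟩, ⟨1, 0⟩),
  (⟨1, 0⟩, ⟨0, 0⟩, ⟨0, 0⟩, ⟨1, 0⟩),
  (⟨1, 0⟩, ⟨0, 0⟩, ⟨0, 0⟩, ⟨1, 0⟩),
  (⟨1, 0⟩, ⟨0, 0⟩, ⟨0, 0⟩, ⟨1, 0⟩),
  (⟨1, 0⟩, ⟨0, 0⟩, ⟨0, 0⟩, ⟨1, 0⟩),
  (⟨1, 0⟩, ⟨0, 0⟩, ⟨0, 0⟩, ⟨1, 0⟩),
  (⟨1, 0⟩, ⟨0, 0⟩, ⟨0, 0⟩, ⟨1, 0⟩),
  (⟨1, 1⟩, ⟨-1, 1⟩, ⟨-2, 0⟩, ⟨-1, -1⟩),
  (⟨0, 0⟩, ⟨1, 0⟩, ⟨1, 0⟩, ⟨0, 1⟩),
  (⟨-1, -1⟩, ⟨0, -1⟩, ⟨1, 0⟩, ⟨1, 0⟩),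
  (⟨1, 1⟩, ⟨0, 1⟩, ⟨-2, 0⟩, ⟨-1, -1⟩),
  (⟨0, 0⟩, ⟨-1, 0⟩, ⟨1, 0⟩, ⟨1, 0⟩),
  (⟨-1, -1⟩, ⟨1, -1⟩, ⟨1, 0⟩, ⟨0, 1⟩),
  (⟨1, 0⟩, ⟨0, 0⟩, ⟨0, 0⟩, ⟨1, 0⟩),
  (⟨1, 0⟩, ⟨0, 0⟩, ⟨0, 0⟩, ⟨1, 0⟩),
  (⟨1, 0⟩, ⟨0, 0⟩, ⟨0, 0⟩, ⟨1, 0⟩),
  (⟨-1, -1⟩, ⟨0, -1⟩, ⟨2, 0⟩, ⟨1, 1⟩),
  (⟨1, 1⟩, ⟨-1, 1⟩, ⟨-1, 0⟩, ⟨0, -1⟩),
  (⟨0, 0⟩, ⟨1, 0⟩, ⟨-1, 0⟩, ⟨-1, 0⟩),
  (⟨-1, -1⟩, ⟨1, -1⟩, ⟨2, 0⟩, ⟨1, 1⟩),
  (⟨1, 1⟩, ⟨0, 1⟩, ⟨-1, 0⟩, ⟨-1, 0⟩),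
  (⟨0, 0⟩, ⟨-1, 0⟩, ⟨-1, 0⟩, ⟨0, -1⟩),
  (⟨1, 0⟩, ⟨0, 0⟩, ⟨0, 0⟩, ⟨1, 0⟩),
  (⟨1, 0⟩, ⟨0, 0⟩, ⟨0, 0⟩, ⟨1, 0⟩),
  (⟨-1, 0⟩, ⟨-1, -1⟩, ⟨0, 0⟩, ⟨1, 0⟩),
  (⟨1, 0⟩, ⟨0, 0⟩, ⟨0, 0⟩, ⟨1, 0⟩),
  (⟨-2, 0⟩, ⟨-1, -1⟩, ⟨1, -1⟩, ⟨1, 0⟩),
  (⟨2, 0⟩, ⟨1, 1⟩, ⟨-1, 1⟩, ⟨-2, 0⟩),
  (⟨1, 0⟩, ⟨0, 0⟩, ⟨0, 0⟩, ⟨1, 0⟩),
  (⟨1, 0⟩, ⟨1, 1⟩, ⟨-1, 1⟩, ⟨-2, 0⟩),
  (⟨-1, 0⟩, ⟨0, 0⟩, ⟨1, -1⟩, ⟨1, 0⟩),
  (⟨1, 0⟩, ⟨0, 0⟩, ⟨0, 0⟩, ⟨1, 0⟩),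
  (⟨-1, 1⟩, ⟨-1, 0⟩, ⟨-1, -1⟩, ⟨0, -1⟩),
  (⟨0, 1⟩, ⟨-1, 1⟩, ⟨-1, -1⟩, ⟨0, -1⟩),
  (⟨-1, 0⟩, ⟨0, -1⟩, ⟨1, 0⟩, ⟨1, 1⟩),
  (⟨1, 0⟩, ⟨0, 0⟩, ⟨0, 0⟩, ⟨1, 0⟩),
  (⟨1, 0⟩, ⟨0, 1⟩, ⟨0, 1⟩, ⟨-1, 0⟩),
  (⟨0, -1⟩, ⟨1, -1⟩, ⟨1, 0⟩, ⟨1, 1⟩),
  (⟨1, -1⟩, ⟨1, 0⟩, ⟨0, 1⟩, ⟨-1, 0⟩),
  (⟨1, 0⟩, ⟨0, 0⟩, ⟨0, 0⟩, ⟨1, 0⟩),
  (⟨1, 0⟩, ⟨0, 0⟩, ⟨0, 0⟩, ⟨1, 0⟩),
  (⟨0, -1⟩, ⟨1, 0⟩, ⟨1, 1⟩, ⟨-1, 1⟩),
  (⟨1, -1⟩, ⟨2, 0⟩, ⟨1, 1⟩, ⟨-1, 1⟩),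
  (⟨1, 0⟩, ⟨1, 0⟩, ⟨-1, 0⟩, ⟨0, 0⟩),
  (⟨-1, 0⟩, ⟨-1, 0⟩, ⟨0, -1⟩, ⟨1, -1⟩),
  (⟨1, 0⟩, ⟨0, 0⟩, ⟨0, 0⟩, ⟨1, 0⟩),
  (⟨0, 1⟩, ⟨-1, 0⟩, ⟨-1, 0⟩, ⟨0, 0⟩),
  (⟨1, 0⟩, ⟨0, 0⟩, ⟨0, 0⟩, ⟨1, 0⟩),
  (⟨-1, 1⟩, ⟨-2, 0⟩, ⟨0, -1⟩, ⟨1, -1⟩),
  (⟨1, 0⟩, ⟨0, 0⟩, ⟨0, 0⟩, ⟨1, 0⟩),
  (⟨1, 0⟩, ⟨1, 1⟩, ⟨0, 0⟩, ⟨-1, 0⟩),
  (⟨-1, 0⟩, ⟨0, 0⟩, ⟨0, 0⟩, ⟨-1, 0⟩),
  (⟨1, 0⟩, ⟨0, 0⟩, ⟨0, 0⟩, ⟨1, 0⟩),
  (⟨1, 0⟩, ⟨0, 0⟩, ⟨-1, 1⟩, ⟨-1, 0⟩),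
  (⟨-1, 0⟩, ⟨-1, -1⟩, ⟨1, -1⟩, ⟨2, 0⟩),
  (⟨1, 0⟩, ⟨0, 0⟩, ⟨0, 0⟩, ⟨1, 0⟩),
  (⟨-2, 0⟩, ⟨-1, -1⟩, ⟨1, -1⟩, ⟨2, 0⟩),
  (⟨2, 0⟩, ⟨1, 1⟩, ⟨-1, 1⟩, ⟨-1, 0⟩),
  (⟨1, 0⟩, ⟨0, 0⟩, ⟨0, 0⟩, ⟨1, 0⟩),
  (⟨-1, 1⟩, ⟨-2, 0⟩, ⟨-1, -1⟩, ⟨1, -1⟩),
  (⟨0, 1⟩, ⟨-1, 0⟩, ⟨-1, -1⟩, ⟨1, -1⟩),
  (⟨0, -1⟩, ⟨1, 0⟩, ⟨1, 0⟩, ⟨0, 0⟩),
  (⟨1, -1⟩, ⟨2, 0⟩, ⟨0, 1⟩, ⟨-1, 1⟩),
  (⟨1, 0⟩, ⟨0, 0⟩, ⟨0, 0⟩, ⟨1, 0⟩),
  (⟨-1, 0⟩, ⟨-1, 0⟩, ⟨1, 0⟩, ⟨0, 0⟩),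
  (⟨1, 0⟩, ⟨0, 0⟩, ⟨0, 0⟩, ⟨1, 0⟩),
  (⟨1, 0⟩, ⟨1, 0⟩, ⟨0, 1⟩, ⟨-1, 1⟩),
  (⟨1, 0⟩, ⟨0, 0⟩, ⟨0, 0⟩, ⟨1, 0⟩),
  (⟨0, -1⟩, ⟨1, -1⟩, ⟨1, 1⟩, ⟨0, 1⟩),
  (⟨1, -1⟩, ⟨1, 0⟩, ⟨1, 1⟩, ⟨0, 1⟩),
  (⟨0, 1⟩, ⟨-1, 1⟩, ⟨-1, 0⟩, ⟨-1, -1⟩),
  (⟨1, 0⟩, ⟨0, 0⟩, ⟨0, 0⟩, ⟨1, 0⟩),
  (⟨-1, 1⟩, ⟨-1, 0⟩, ⟨0, -1⟩, ⟨1, 0⟩),
  (⟨1, 0⟩, ⟨0, 1⟩, ⟨-1, 0⟩, ⟨-1, -1⟩),
  (⟨-1, 0⟩, ⟨0, -1⟩, ⟨0, -1⟩, ⟨1, 0⟩),
  (⟨1, 0⟩, ⟨0, 0⟩, ⟨0, 0⟩, ⟨1, 0⟩)]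

/-- The index of a code. -/
def cidx : Code → ℕ
  | (a, b, c, d) => 27 * a.val + 9 * b.val + 3 * c.val + d.val

/-- The entries of the representing matrix of a code. -/
def repEntries (p : Code) : RootTwo × RootTwo × RootTwo × RootTwo :=
  repTable.getD (cidx p) (0, 0, 0, 0)

/-- Multiplication of entries. -/
def emul : RootTwo × RootTwo × RootTwo × RootTwo → RootTwo × RootTwo × RootTwo × RootTwo →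
    RootTwo × RootTwo × RootTwo × RootTwo
  | (a, b, c, d), (e, f, g, h) => (a * e + b * g, a * f + b * h, c * e + d * g, c * f + d * h)

theorem repEntries_mul : ∀ p : Code, cdet p ≠ 0 → ∀ q : Code, cdet q ≠ 0 →
    repEntries (cmul p q) = emul (repEntries p) (repEntries q) := by
  decide +kernel

/-- The matrix of entries. -/
def toMat : RootTwo × RootTwo × RootTwo × RootTwo → Matrix (Fin 2) (Fin 2) RootTwo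
  | (a, b, c, d) => !![a, b; c, d]

theorem toMat_emul : ∀ x y, toMat (emul x y) = toMat x * toMat y := by
  rintro ⟨a, b, c, d⟩ ⟨e, f, g, h⟩
  simp only [toMat, emul, Matrix.mul_fin_two]

/-- The faithful two-dimensional representation. -/
def glThreeRep : GLThree →* Matrix (Fin 2) (Fin 2) RootTwo where
  toFun p := toMat (repEntries p.1)
  map_one' := by decide +kernel
  map_mul' p q := by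
    show toMat (repEntries (cmul p.1 q.1)) = _
    rw [repEntries_mul p.1 p.2 q.1 q.2, toMat_emul]

/-- The trace. -/
def trTwo (p : GLThree) : RootTwo := (glThreeRep p).trace

/-- The sign. -/
def sgnTwo (p : GLThree) : RootTwo := (glThreeRep p).det

/-- A character of degree three. -/
def chiThree (p : GLThree) : RootTwo := trTwo p * trTwo p - sgnTwo p

/-- A character of degree three. -/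
def chiThree' (p : GLThree) : RootTwo := trTwo p * star (trTwo p) - 1

/-- The character of degree four. -/
def chiFour (p : GLThree) : RootTwo := trTwo p * chiThree p - star (trTwo p)

/-- The character of degree two with kernel the quaternion subgroup. -/
def chiTwo (p : GLThree) : RootTwo := chiFour p * trTwo p - chiThree p - chiThree' p

/-- The first test class function. -/
def testOne (p : GLThree) : RootTwo := 1 + chiThree' p - chiFour p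

/-- The second test class function. -/
def testTwo (p : GLThree) : RootTwo := 1 + chiTwo p - chiThree p

/-- The third test class function. -/
def testFour (p : GLThree) : RootTwo := chiTwo p - trTwo p

/-- The embedding into the complex numbers. -/
noncomputable def rootTwoHom : RootTwo →+* ℂ :=
  Zsqrtd.lift ⟨Complex.I * (Real.sqrt 2 : ℝ), by
    have h : ((Real.sqrt 2 : ℝ) : ℂ) * ((Real.sqrt 2 : ℝ) : ℂ) = 2 := by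
      rw [← Complex.ofReal_mul, Real.mul_self_sqrt (by norm_num)]; simp
    linear_combination (Complex.I * Complex.I) * h + 2 * Complex.I_mul_I⟩

theorem conj_rootTwoHom (x : RootTwo) : starRingEnd ℂ (rootTwoHom x) = rootTwoHom (star x) := by
  obtain ⟨a, b⟩ := x
  simp [rootTwoHom, Zsqrtd.lift]

theorem isGeneralizedCharacter_tests :
    IsGeneralizedCharacter GLThree (fun p => rootTwoHom (testOne p)) ∧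
      IsGeneralizedCharacter GLThree (fun p => rootTwoHom (testTwo p)) ∧
      IsGeneralizedCharacter GLThree (fun p => rootTwoHom (testFour p)) := by
  have hT : IsGeneralizedCharacter GLThree fun p => rootTwoHom (trTwo p) :=
    Chars.isGeneralizedCharacter_of_isCharacter (isCharacter_trace glThreeRep rootTwoHom)
  have hT' : IsGeneralizedCharacter GLThree fun p => rootTwoHom (star (trTwo p)) :=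
    Chars.isGeneralizedCharacter_of_isCharacter
      (isCharacter_trace glThreeRep (rootTwoHom.comp (starRingEnd RootTwo)) |> fun h => by
        simp only [trTwo]
        convert h using 2
        simp [starRingEnd_apply])
  have he : IsGeneralizedCharacter GLThree fun p => rootTwoHom (sgnTwo p) :=
    Chars.isGeneralizedCharacter_of_isCharacter (isCharacter_det glThreeRep rootTwoHom)
  have h1 : IsGeneralizedCharacter GLThree fun _ => (1 : ℂ) :=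
    Chars.isGeneralizedCharacter_of_isCharacter (Chars.irr_isCharacter (Chars.trivialIrr _))
  have h3 : IsGeneralizedCharacter GLThree fun p => rootTwoHom (chiThree p) := by
    simp only [chiThree, map_sub, map_mul]
    exact Chars.isGeneralizedCharacter_sub (Chars.isGeneralizedCharacter_mul hT hT) he
  have h3' : IsGeneralizedCharacter GLThree fun p => rootTwoHom (chiThree' p) := by
    simp only [chiThree', map_sub, map_mul, map_one]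
    exact Chars.isGeneralizedCharacter_sub (Chars.isGeneralizedCharacter_mul hT hT') h1
  have h4 : IsGeneralizedCharacter GLThree fun p => rootTwoHom (chiFour p) := by
    simp only [chiFour, map_sub, map_mul]
    exact Chars.isGeneralizedCharacter_sub (Chars.isGeneralizedCharacter_mul hT h3) hT'
  have h2 : IsGeneralizedCharacter GLThree fun p => rootTwoHom (chiTwo p) := by
    simp only [chiTwo, map_sub, map_mul]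
    exact Chars.isGeneralizedCharacter_sub
      (Chars.isGeneralizedCharacter_sub (Chars.isGeneralizedCharacter_mul h4 hT) h3) h3'
  refine ⟨?_, ?_, ?_⟩
  · simp only [testOne, map_sub, map_add, map_one]
    exact Chars.isGeneralizedCharacter_sub (Chars.isGeneralizedCharacter_add h1 h3') h4
  · simp only [testTwo, map_sub, map_add, map_one]
    exact Chars.isGeneralizedCharacter_sub (Chars.isGeneralizedCharacter_add h1 h2) h3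
  · simp only [testFour, map_sub]
    exact Chars.isGeneralizedCharacter_sub h2 hT

end Cfsg.Agent.Lib.InvCentralizer
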