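import Cfsg.Agent.Lib.InvCentralizer.Count

/-!
Transporting the counting argument from an explicit model of the involution centraliser.
-/

set_option autoImplicit false

namespace Cfsg.Agent.Lib.InvCentralizer

open scoped ComplexConjugate
open Cfsg Cfsg.Agent.Lib

universe u v

section Matrices

variable {M : Type u} [Group M] {D : Type v} [CommRing D] {n : ℕ}

/-- The trace of a matrix representation over a ring embedded into the complex numbers. -/
theorem isCharacter_trace (R : M →* Matrix (Fin n) (Fin n) D) (φ : D →+* ℂ) :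
    IsCharacter M (fun g => φ (R g).trace) := by
  refine ⟨n, (Matrix.toLinAlgEquiv' (R := ℂ) (n := Fin n)).toAlgHom.toMonoidHom.comp
    ((φ.mapMatrix (m := Fin n)).toMonoidHom.comp R), ?_⟩
  funext g
  show LinearMap.trace ℂ _ (Matrix.toLin' ((R g).map φ)) = φ (R g).trace
  rw [Matrix.trace_toLin'_eq]
  simp [Matrix.trace]

/-- The determinant of a matrix representation over a ring embedded into the complex numbers. -/
theorem isCharacter_det (R : M →* Matrix (Fin n) (Fin n) D) (φ : D →+* ℂ) :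
    IsCharacter M (fun g => φ (R g).det) := by
  let l : M →* ℂ := φ.toMonoidHom.comp (Matrix.detMonoidHom.comp R)
  exact Chars.isCharacter_hom l.toHomUnits

end Matrices

variable {G : Type u} [Group G] [Fintype G] {t : G} [Fintype (Subgroup.centralizer ({t} : Set G))]
  {M : Type v} [Group M] [Fintype M] [DecidableEq M]
  (e : Subgroup.centralizer ({t} : Set G) ≃* M)

/-- The image of `t` in the model. -/
def tImage : M := e ⟨t, Subgroup.mem_centralizer_singleton_iff.mpr rfl⟩

theorem symm_coe_tImage : ((e.symm (tImage e) : Subgroup.centralizer ({t} : Set G)) : G) = t := by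
  simp [tImage]

theorem tImage_props (ht : orderOf t = 2) :
    tImage e * tImage e = 1 ∧ tImage e ≠ 1 ∧ ∀ m, tImage e * m = m * tImage e := by
  refine ⟨?_, ?_, fun m => ?_⟩
  · rw [tImage, ← map_mul, ← pow_two,
      show (⟨t, _⟩ : Subgroup.centralizer ({t} : Set G)) ^ 2 = 1 from
        Subtype.ext (show t ^ 2 = 1 by rw [← ht, pow_orderOf_eq_one]), map_one]
  · intro h
    have h' : t = 1 := congrArg Subtype.val ((map_eq_one_iff e e.injective).mp h)
    rw [h', orderOf_one] at ht
    omega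
  · obtain ⟨x, rfl⟩ := e.surjective m
    rw [tImage, ← map_mul, ← map_mul]
    congr 1
    exact Subtype.ext (Subgroup.mem_centralizer_singleton_iff.mp x.2).symm

/-- Fusion and the order of a Sylow 2-subgroup, read off from the model. -/
theorem fusion_of_model (hno : ∀ H : Subgroup G, H.index ≠ 2) (ht : orderOf t = 2) (k : ℕ) (A : M)
    (hA : orderOf A = 2 ^ k) (hAt : ∃ i : ℕ, A ^ i = tImage e)
    (hcomm : ∀ z : M, z * A = A * z → z * z = 1 → z = 1 ∨ z = tImage e)
    (h2 : 2 ^ (k + 1) ∣ Nat.card M) (h2' : ¬ 2 ^ (k + 2) ∣ Nat.card M) :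
    (∀ u : G, orderOf u = 2 → IsConj u t) ∧ 2 ^ (k + 1) ∣ Nat.card G ∧ ¬ 2 ^ (k + 2) ∣ Nat.card G := by
  haveI : Fact (Nat.Prime 2) := ⟨Nat.prime_two⟩
  set a : G := ((e.symm A : (Subgroup.centralizer ({t} : Set G))) : G) with hadef
  have hao : orderOf a = 2 ^ k := by
    rw [hadef, Subgroup.orderOf_coe, MulEquiv.orderOf_eq, hA]
  have hta : t ∈ Subgroup.zpowers a := by
    obtain ⟨i, hi⟩ := hAt
    refine ⟨(i : ℤ), ?_⟩
    show a ^ (i : ℤ) = t
    rw [zpow_natCast, hadef, ← SubgroupClass.coe_pow, ← map_pow, hi]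
    exact symm_coe_tImage e
  have hpa : IsPGroup 2 (Subgroup.zpowers a) := IsPGroup.of_card (n := k) (by rw [Nat.card_zpowers, hao])
  have hcom : ∀ z ∈ (Subgroup.centralizer ({t} : Set G)), z * a = a * z → orderOf z = 2 → z = t := by
    intro z hz hza hz2
    set z' : (Subgroup.centralizer ({t} : Set G)) := ⟨z, hz⟩
    have hz0 : z' * z' = 1 := Subtype.ext (show z * z = 1 by rw [← pow_two, ← hz2, pow_orderOf_eq_one])
    have hcm : e z' * A = A * e z' := by
      rw [← e.apply_symm_apply A, ← map_mul, ← map_mul]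
      exact congrArg e (Subtype.ext hza)
    rcases hcomm (e z') hcm (by rw [← map_mul, hz0, map_one]) with h | h
    · have h' : z = 1 := congrArg Subtype.val ((map_eq_one_iff e e.injective).mp h)
      rw [h', orderOf_one] at hz2
      omega
    · exact congrArg Subtype.val (e.injective
        (show e z' = e ⟨t, Subgroup.mem_centralizer_singleton_iff.mpr rfl⟩ from h))
  obtain ⟨P, hPC, haP⟩ := exists_sylow_le_centralizer ht hta hpa hcom
  have hCM : Nat.card (Subgroup.centralizer ({t} : Set G)) = Nat.card M := Nat.card_congr e.toEquiv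
  obtain ⟨j, hj⟩ := IsPGroup.iff_card.mp P.isPGroup'
  have hd1 : 2 ^ j ∣ Nat.card M := hj ▸ hCM ▸ Subgroup.card_dvd_of_le hPC
  have hj' : j ≤ k + 1 := by
    by_contra hh
    exact h2' ((pow_dvd_pow 2 (by omega)).trans hd1)
  have hG : 2 ^ (k + 1) ∣ Nat.card G := (h2.trans (hCM ▸ dvd_rfl)).trans (Subgroup.card_subgroup_dvd_card (Subgroup.centralizer ({t} : Set G)))
  have hge : 2 ^ (k + 1) ∣ 2 ^ j := hj ▸ P.pow_dvd_card_of_pow_dvd_card hG
  have hjeq : j = k + 1 := le_antisymm hj' ((Nat.pow_dvd_pow_iff_le_right (by norm_num)).mp hge)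
  subst hjeq
  refine ⟨fun u hu => isConj_of_no_index_two hno ht hta P haP (by rw [hj, hao, pow_succ, mul_comm]) u hu,
    hG, fun h => ?_⟩
  have := hj ▸ P.pow_dvd_card_of_pow_dvd_card h
  exact absurd ((Nat.pow_dvd_pow_iff_le_right (by norm_num)).mp this) (by omega)

variable {D : Type*} [CommRing D] [StarRing D] (φ : D →+* ℂ)

/-- A function on the model as a function on the centraliser. -/
def pull (F : M → D) : Subgroup.centralizer ({t} : Set G) → ℂ := fun x => φ (F (e x))

omit [StarRing D] in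
theorem isGeneralizedCharacter_pull {F : M → D} (h : IsGeneralizedCharacter M fun m => φ (F m)) :
    IsGeneralizedCharacter _ (pull e φ F) := by
  obtain ⟨χ, ψ, hχ, hψ, heq⟩ := h
  exact ⟨χ ∘ e, ψ ∘ e, Chars.isCharacter_comp e.toMonoidHom hχ, Chars.isCharacter_comp e.toMonoidHom hψ,
    funext fun x => congrFun heq (e x)⟩

omit [StarRing D] in
theorem supp_pull {F : M → D} (hF : ∀ m, F m ≠ 0 → ∃ i : ℕ, i < 5 ∧ m ^ i = tImage e)
    (x : Subgroup.centralizer ({t} : Set G)) (hx : pull e φ F x ≠ 0) :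
    t ∈ Subgroup.zpowers (x : G) := by
  obtain ⟨i, -, hi⟩ := hF (e x) fun h => hx (by rw [pull, h, map_zero])
  refine ⟨(i : ℤ), ?_⟩
  show (x : G) ^ (i : ℤ) = t
  rw [← map_pow] at hi
  rw [zpow_natCast, ← SubgroupClass.coe_pow]
  exact congrArg Subtype.val (e.injective hi)

/-- The inner product in terms of the model. -/
theorem classInner_pull (hφ : ∀ x, conj (φ x) = φ (star x)) (F F' : M → D) {k : ℤ}
    (h : ∑ m, F m * star (F' m) = ((Fintype.card M : ℤ) * k : ℤ)) :
    classInner (pull e φ F) (pull e φ F') = (k : ℂ) := by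
  have hs : ∑ x : Subgroup.centralizer ({t} : Set G), pull e φ F x * conj (pull e φ F' x)
      = φ (∑ m, F m * star (F' m)) := by
    rw [map_sum]
    refine Fintype.sum_equiv e.toEquiv _ _ fun x => ?_
    simp [pull, hφ]
  rw [classInner, hs, h, Nat.card_congr e.toEquiv, Nat.card_eq_fintype_card, map_intCast]
  push_cast
  rw [← mul_assoc, inv_mul_cancel₀ (Nat.cast_ne_zero.mpr Fintype.card_ne_zero), one_mul]

/-- The multiplicity of the trivial character in terms of the model. -/
theorem classInner_pull_one (F : M → D) {k : ℤ}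
    (h : ∑ m, F m = ((Fintype.card M : ℤ) * k : ℤ)) :
    classInner (pull e φ F) (fun _ => 1) = (k : ℂ) := by
  have hs : ∑ x : Subgroup.centralizer ({t} : Set G), pull e φ F x * conj (1 : ℂ)
      = φ (∑ m, F m) := by
    rw [map_sum]
    refine Fintype.sum_equiv e.toEquiv _ _ fun x => ?_
    simp [pull]
  rw [classInner, hs, h, Nat.card_congr e.toEquiv, Nat.card_eq_fintype_card, map_intCast]
  push_cast
  rw [← mul_assoc, inv_mul_cancel₀ (Nat.cast_ne_zero.mpr Fintype.card_ne_zero), one_mul]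

omit [StarRing D] in
/-- The pair sum in terms of the model. -/
theorem pairSum_pull (F : M → D) :
    pairSum t (pull e φ F)
      = φ (∑ u ∈ Finset.univ.filter (fun m : M => m * m = 1 ∧ m ≠ 1),
          ∑ v ∈ Finset.univ.filter (fun m : M => m * m = 1 ∧ m ≠ 1), F (u * v)) := by
  have hmem : ∀ x : Subgroup.centralizer ({t} : Set G),
      orderOf x = 2 ↔ (e x * e x = 1 ∧ e x ≠ 1) := fun x => by
    rw [← e.orderOf_eq x, orderOf_eq_prime_iff, pow_two]
  simp only [map_sum, pairSum]
  refine Finset.sum_equiv e.toEquiv (fun x => by simpa using hmem x) fun u _ => ?_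
  refine Finset.sum_equiv e.toEquiv (fun x => by simpa using hmem x) fun v _ => ?_
  simp [pull]

/-- All invariants of one class function, with rational arithmetic. -/
theorem exists_coeff_of_model (ht : orderOf t = 2) (hconj : ∀ u : G, orderOf u = 2 → IsConj u t)
    {a d : IrrCharacter G → ℤ} (ha : ∀ χ : IrrCharacter G, (χ : G → ℂ) t = a χ)
    (hd : ∀ χ : IrrCharacter G, (χ : G → ℂ) 1 = d χ) (F : M → D)
    (hgen : IsGeneralizedCharacter M fun m => φ (F m))
    (hF : ∀ m, F m ≠ 0 → ∃ i : ℕ, i < 5 ∧ m ^ i = tImage e) {m₀ v S : ℤ}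
    (hm : ∑ m, F m = ((Fintype.card M : ℤ) * m₀ : ℤ)) (hv : F (tImage e) = (v : D))
    (hS : ∑ u ∈ Finset.univ.filter (fun m : M => m * m = 1 ∧ m ≠ 1),
          ∑ w ∈ Finset.univ.filter (fun m : M => m * m = 1 ∧ m ≠ 1), F (u * w) = (S : D)) :
    ∃ c : IrrCharacter G → ℤ,
      (∀ χ : IrrCharacter G,
        classInner (indFun (Subgroup.centralizer ({t} : Set G)) (pull e φ F)) (χ : G → ℂ) = c χ) ∧
      c (Chars.trivialIrr G) = m₀ ∧ ∑ χ, (c χ : ℚ) * d χ = 0 ∧ ∑ χ, (c χ : ℚ) * a χ = v ∧
      (Nat.card G : ℚ) * ∑ χ, (c χ : ℚ) * ((a χ : ℚ) ^ 2 / d χ) = (Fintype.card M : ℚ) * S := by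
  obtain ⟨c, hc, h0, h1, h2, h3⟩ := exists_coeff ht hconj (pull e φ F)
    (isGeneralizedCharacter_pull e φ hgen) (supp_pull e φ hF)
  refine ⟨c, hc, ?_, ?_, ?_, ?_⟩
  · rw [classInner_pull_one e φ F hm] at h0
    exact_mod_cast h0
  · apply Rat.cast_injective (α := ℂ)
    push_cast
    simpa only [hd] using h1
  · apply Rat.cast_injective (α := ℂ)
    push_cast
    simp only [ha] at h2
    rw [h2, pull]
    show φ (F (tImage e)) = _
    rw [hv, map_intCast]
  · apply Rat.cast_injective (α := ℂ)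
    push_cast
    rw [pairSum_pull e φ F, hS, map_intCast, Nat.card_congr e.toEquiv] at h3
    simp only [ha, hd, Nat.card_eq_fintype_card (α := M)] at h3
    rw [← h3]
    congr 1
    exact Finset.sum_congr rfl fun χ _ => by ring

/-- Inner products of coefficient vectors in terms of the model. -/
theorem sum_coeff_mul_of_model (ht : orderOf t = 2) (hφ : ∀ x, conj (φ x) = φ (star x))
    {F F' : M → D} (hgen' : IsGeneralizedCharacter M fun m => φ (F' m))
    (hF : ∀ m, F m ≠ 0 → ∃ i : ℕ, i < 5 ∧ m ^ i = tImage e)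
    (hF' : ∀ m, F' m ≠ 0 → ∃ i : ℕ, i < 5 ∧ m ^ i = tImage e)
    {c c' : IrrCharacter G → ℤ}
    (hc : ∀ χ : IrrCharacter G,
      classInner (indFun (Subgroup.centralizer ({t} : Set G)) (pull e φ F)) (χ : G → ℂ) = c χ)
    (hc' : ∀ χ : IrrCharacter G,
      classInner (indFun (Subgroup.centralizer ({t} : Set G)) (pull e φ F')) (χ : G → ℂ) = c' χ)
    {k : ℤ} (hk : ∑ m, F m * star (F' m) = ((Fintype.card M : ℤ) * k : ℤ)) :
    ∑ χ, c χ * c' χ = k := by
  have h := sum_coeff_mul ht (isGeneralizedCharacter_pull e φ hgen') (supp_pull e φ hF)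
    (supp_pull e φ hF') hc hc'
  rw [classInner_pull e φ hφ F F' hk] at h
  exact_mod_cast h

/-- Integral values at the involution. -/
theorem exists_values (ht : orderOf t = 2) :
    ∃ a d : IrrCharacter G → ℤ, (∀ χ : IrrCharacter G, (χ : G → ℂ) t = a χ) ∧
      (∀ χ : IrrCharacter G, (χ : G → ℂ) 1 = d χ) ∧ (∀ χ, 0 < d χ) ∧ (∀ χ, 2 ∣ d χ - a χ) ∧
      a (Chars.trivialIrr G) = 1 ∧ d (Chars.trivialIrr G) = 1 := by
  choose a d ha hd hpos hpar using fun χ : IrrCharacter G => exists_int_value χ ht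
  refine ⟨a, d, ha, hd, hpos, hpar, ?_, ?_⟩
  · have h := ha (Chars.trivialIrr G)
    rw [show (Chars.trivialIrr G : G → ℂ) t = 1 from rfl] at h
    exact_mod_cast h.symm
  · have h := hd (Chars.trivialIrr G)
    rw [show (Chars.trivialIrr G : G → ℂ) 1 = 1 from rfl] at h
    exact_mod_cast h.symm

end Cfsg.Agent.Lib.InvCentralizer
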